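-- S2858 claim (N), package NL1 (helper1): the subgroup `L` of index 2 of `P` with Sylow
-- 2-subgroup `S` and `L ⊓ Q ≤ S`.
import Mathlib
import Cfsg.Agent.Lib.Helper45.S3Amal.NDefs
import Cfsg.Agent.Lib.Helper53.Basic

set_option autoImplicit false

namespace Cfsg.Agent.Lib.Helper1.S3Amal

open Cfsg.Agent.Lib.Helper71.Sym Cfsg.Agent.Lib.Helper45.S3Amal

universe u

/-- A `2`-subgroup `X ≥ D` whose order divides `3 |D|` equals `D`. -/
theorem eq_of_isPGroup_two_of_card_dvd {A : Type*} [Group A] [Finite A] {X D : Subgroup A}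
    (hX : IsPGroup 2 X) (hDX : D ≤ X) (hdvd : Nat.card X ∣ 3 * Nat.card D) : X = D := by
  have : Fact (Nat.Prime 2) := ⟨Nat.prime_two⟩
  obtain ⟨k, hk⟩ := IsPGroup.iff_card.mp hX
  have hcop : Nat.Coprime (Nat.card X) 3 := by
    rw [hk]; exact Nat.Coprime.pow_left k (by norm_num)
  have h1 : Nat.card X ∣ Nat.card D := hcop.dvd_of_dvd_mul_left hdvd
  have h2 : Nat.card X ≤ Nat.card D := Nat.le_of_dvd Nat.card_pos h1
  exact (Subgroup.eq_of_le_of_card_ge hDX h2).symm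

/-- Products and membership for a subgroup of relative index two. -/
theorem mul_mem_iff_of_relIndex_two {A : Type*} [Group A] {H K : Subgroup A}
    (h : H.relIndex K = 2) {a b : A} (ha : a ∈ K) (hb : b ∈ K) :
    a * b ∈ H ↔ (a ∈ H ↔ b ∈ H) := by
  have hidx : (H.subgroupOf K).index = 2 := h
  have := Subgroup.mul_mem_iff_of_index_two hidx (a := ⟨a, ha⟩) (b := ⟨b, hb⟩)
  simpa [Subgroup.mem_subgroupOf] using this

/-- The abstract form inside the finite group `A = P`: `A / D` has order `12`, `Q / D` is a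
normal subgroup of order `2`, `S / D` another subgroup of order `2` of the Sylow `2`-subgroup
`T / D`.  Then `S` lies in a normal subgroup `L` of order `3 |S|` with `L ⊓ Q ≤ S`. -/
theorem exists_L_abs {A : Type*} [Group A] [Finite A] (D Q S T : Subgroup A) [hDn : D.Normal]
    [hQn : Q.Normal] (hDQ : D ≤ Q) (hDS : D ≤ S) (hST : S ≤ T) (hQT : Q ≤ T)
    (hT2 : IsPGroup 2 T) (hQD : Nat.card Q = 2 * Nat.card D) (hSD : Nat.card S = 2 * Nat.card D)
    (hcard : Nat.card A = 6 * Nat.card Q) :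
    ∃ L : Subgroup A, L.Normal ∧ S ≤ L ∧ Nat.card L = 3 * Nat.card S ∧ L ⊓ Q ≤ S := by
  classical
  have : Fact (Nat.Prime 2) := ⟨Nat.prime_two⟩
  have : Fact (Nat.Prime 3) := ⟨Nat.prime_three⟩
  have hDpos : 0 < Nat.card D := Nat.card_pos
  have h3 : 3 ∣ Nat.card A := by rw [hcard]; exact ⟨2 * Nat.card Q, by ring⟩
  obtain ⟨ρ, hρ⟩ := exists_prime_orderOf_dvd_card' 3 h3
  have hcz : Nat.card (Subgroup.zpowers ρ) = 3 := by rw [Nat.card_zpowers, hρ]
  have hQ2 : IsPGroup 2 Q := hT2.to_le hQT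
  have hD2 : IsPGroup 2 D := hQ2.to_le hDQ
  have hS2 : IsPGroup 2 S := hT2.to_le hST
  have hrel : ∀ X : Subgroup A, IsPGroup 2 X → X.relIndex (Subgroup.zpowers ρ) = 3 := by
    intro X hX
    have hbot : X ⊓ Subgroup.zpowers ρ = ⊥ := by
      apply Disjoint.eq_bot
      apply Subgroup.disjoint_of_coprime_natCard
      obtain ⟨k, hk⟩ := IsPGroup.iff_card.mp hX
      rw [hk, hcz]
      exact Nat.Coprime.pow_left k (by norm_num)
    rw [← Subgroup.inf_relIndex_right, hbot, Subgroup.relIndex_bot_left, hcz]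
  -- `R = D ⟨ρ⟩` and `N = Q ⟨ρ⟩`
  have hRc : Nat.card (Subgroup.zpowers ρ ⊔ D : Subgroup A) = 3 * Nat.card D := by
    have h1 := Cfsg.Agent.Lib.Helper53.card_mul_relIndex_eq
      (le_sup_right : D ≤ Subgroup.zpowers ρ ⊔ D)
    rw [Subgroup.relIndex_sup_right, hrel D hD2] at h1
    omega
  have hNc : Nat.card (Subgroup.zpowers ρ ⊔ Q : Subgroup A) = 3 * Nat.card Q := by
    have h1 := Cfsg.Agent.Lib.Helper53.card_mul_relIndex_eq
      (le_sup_right : Q ≤ Subgroup.zpowers ρ ⊔ Q)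
    rw [Subgroup.relIndex_sup_right, hrel Q hQ2] at h1
    omega
  have hRN : Subgroup.zpowers ρ ⊔ D ≤ Subgroup.zpowers ρ ⊔ Q :=
    sup_le le_sup_left (hDQ.trans le_sup_right)
  have hNidx : (Subgroup.zpowers ρ ⊔ Q : Subgroup A).index = 2 := by
    have h1 := (Subgroup.zpowers ρ ⊔ Q : Subgroup A).card_mul_index
    rw [hNc, hcard] at h1
    have hQpos : 0 < Nat.card Q := Nat.card_pos
    have h2 : 3 * Nat.card Q * (Subgroup.zpowers ρ ⊔ Q : Subgroup A).index = 3 * Nat.card Q * 2 := by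
      rw [h1]; ring
    exact Nat.eq_of_mul_eq_mul_left (by positivity) h2
  have hNn : (Subgroup.zpowers ρ ⊔ Q : Subgroup A).Normal := Subgroup.normal_of_index_eq_two hNidx
  have hρ3 : ρ ^ 3 = 1 := by rw [← hρ]; exact pow_orderOf_eq_one ρ
  -- `R` is normal
  have hRn : (Subgroup.zpowers ρ ⊔ D : Subgroup A).Normal := by
    constructor
    intro n hn g
    have hR2c : Nat.card ((Subgroup.zpowers ρ ⊔ D : Subgroup A).map (MulAut.conj g).toMonoidHom) =
        Nat.card (Subgroup.zpowers ρ ⊔ D : Subgroup A) :=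
      Subgroup.card_map_of_injective (MulAut.conj g).injective
    have hR2N : (Subgroup.zpowers ρ ⊔ D : Subgroup A).map (MulAut.conj g).toMonoidHom ≤
        Subgroup.zpowers ρ ⊔ Q := by
      rintro _ ⟨x, hx, rfl⟩
      exact hNn.conj_mem x (hRN hx) g
    have hR2idx : ((Subgroup.zpowers ρ ⊔ D : Subgroup A).map
        (MulAut.conj g).toMonoidHom).relIndex (Subgroup.zpowers ρ ⊔ Q) = 2 := by
      have h1 := Cfsg.Agent.Lib.Helper53.card_mul_relIndex_eq hR2N
      rw [hR2c, hRc, hNc, hQD] at h1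
      have h2 : 3 * Nat.card D * ((Subgroup.zpowers ρ ⊔ D : Subgroup A).map
          (MulAut.conj g).toMonoidHom).relIndex (Subgroup.zpowers ρ ⊔ Q) = 3 * Nat.card D * 2 := by
        rw [h1]; ring
      exact Nat.eq_of_mul_eq_mul_left (by positivity) h2
    have hρN : ρ ∈ (Subgroup.zpowers ρ ⊔ Q : Subgroup A) :=
      Subgroup.mem_sup_left (Subgroup.mem_zpowers ρ)
    have hρ2 : ρ ∈ (Subgroup.zpowers ρ ⊔ D : Subgroup A).map (MulAut.conj g).toMonoidHom := by
      have h2 := (mul_mem_iff_of_relIndex_two hR2idx hρN hρN).mpr Iff.rfl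
      have h3 : (ρ * ρ) * (ρ * ρ) = ρ := by
        calc (ρ * ρ) * (ρ * ρ) = ρ ^ 3 * ρ := by simp [pow_succ, mul_assoc]
          _ = ρ := by rw [hρ3, one_mul]
      have h4 := mul_mem h2 h2
      rwa [h3] at h4
    have hD2' : D ≤ (Subgroup.zpowers ρ ⊔ D : Subgroup A).map (MulAut.conj g).toMonoidHom := by
      intro d hd
      refine ⟨g⁻¹ * d * g, le_sup_right (a := Subgroup.zpowers ρ) ?_, ?_⟩
      · have := hDn.conj_mem d hd g⁻¹
        simpa using this
      · simp [MulAut.conj_apply, mul_assoc]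
    have hle : Subgroup.zpowers ρ ⊔ D ≤
        (Subgroup.zpowers ρ ⊔ D : Subgroup A).map (MulAut.conj g).toMonoidHom :=
      sup_le (by rw [Subgroup.zpowers_le]; exact hρ2) hD2'
    have heq := Subgroup.eq_of_le_of_card_ge hle (le_of_eq hR2c)
    rw [heq]
    exact ⟨n, hn, by simp [MulAut.conj_apply]⟩
  -- `L = S R`
  have hRS : (Subgroup.zpowers ρ ⊔ D) ⊓ S = D := by
    apply eq_of_isPGroup_two_of_card_dvd (hS2.to_le inf_le_right) (le_inf le_sup_right hDS)
    rw [← hRc]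
    exact Subgroup.card_dvd_of_le inf_le_left
  have hDSrel : D.relIndex S = 2 := by
    have h1 := Cfsg.Agent.Lib.Helper53.card_mul_relIndex_eq hDS
    rw [hSD] at h1
    have h2 : Nat.card D * D.relIndex S = Nat.card D * 2 := by rw [h1]; ring
    exact Nat.eq_of_mul_eq_mul_left hDpos h2
  have hLc : Nat.card (S ⊔ (Subgroup.zpowers ρ ⊔ D) : Subgroup A) = 3 * Nat.card S := by
    have h1 := Cfsg.Agent.Lib.Helper53.card_mul_relIndex_eq
      (le_sup_right : Subgroup.zpowers ρ ⊔ D ≤ S ⊔ (Subgroup.zpowers ρ ⊔ D))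
    rw [Subgroup.relIndex_sup_right, ← Subgroup.inf_relIndex_right, hRS, hDSrel, hRc] at h1
    omega
  have hLidx : (S ⊔ (Subgroup.zpowers ρ ⊔ D) : Subgroup A).index = 2 := by
    have h1 := (S ⊔ (Subgroup.zpowers ρ ⊔ D) : Subgroup A).card_mul_index
    rw [hLc, hcard, hQD, hSD] at h1
    have h2 : 3 * (2 * Nat.card D) * (S ⊔ (Subgroup.zpowers ρ ⊔ D) : Subgroup A).index =
        3 * (2 * Nat.card D) * 2 := by
      rw [h1]; ring
    exact Nat.eq_of_mul_eq_mul_left (by positivity) h2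
  refine ⟨S ⊔ (Subgroup.zpowers ρ ⊔ D), Subgroup.normal_of_index_eq_two hLidx, le_sup_left, hLc, ?_⟩
  have hLT : (S ⊔ (Subgroup.zpowers ρ ⊔ D)) ⊓ T = S := by
    apply eq_of_isPGroup_two_of_card_dvd (hT2.to_le inf_le_right) (le_inf le_sup_left hST)
    rw [← hLc]
    exact Subgroup.card_dvd_of_le inf_le_left
  calc (S ⊔ (Subgroup.zpowers ρ ⊔ D)) ⊓ Q ≤ (S ⊔ (Subgroup.zpowers ρ ⊔ D)) ⊓ T :=
        inf_le_inf_left _ hQT
    _ = S := hLT

theorem pkgNL1 : Cfsg.Agent.Lib.Helper45.S3Amal.PkgNL1.{u} := by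
  intro G _ P T Q S hA _hZF hST hTS hSQ hD
  have : Fact (Nat.Prime 2) := ⟨Nat.prime_two⟩
  have := hA.fin
  have hQP : Q ≤ P := hA.hQT.trans hA.hTH
  have hSP : S ≤ P := hST.trans hA.hTH
  have hTfin : Finite T :=
    Finite.of_injective (Subgroup.inclusion hA.hTH) (Subgroup.inclusion_injective _)
  have hSfin : Finite S :=
    Finite.of_injective (Subgroup.inclusion hSP) (Subgroup.inclusion_injective _)
  have hQfin : Finite Q :=
    Finite.of_injective (Subgroup.inclusion hQP) (Subgroup.inclusion_injective _)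
  have hSpos : 0 < Nat.card S := Nat.card_pos
  have hSrel : S.relIndex T = 2 := by
    have h1 := Cfsg.Agent.Lib.Helper53.card_mul_relIndex_eq hST
    rw [hTS] at h1
    have h2 : Nat.card S * S.relIndex T = Nat.card S * 2 := by rw [h1]; ring
    exact Nat.eq_of_mul_eq_mul_left hSpos h2
  have hQS : ¬ Q ≤ S := by
    intro h
    apply hSQ
    have hc : Nat.card S ≤ Nat.card Q := by have := hA.hTQ; omega
    exact (Subgroup.eq_of_le_of_card_ge h hc).symm
  obtain ⟨q₀, hq₀Q, hq₀S⟩ := SetLike.not_le_iff_exists.mp hQS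
  have hSQrel : S.relIndex Q = 2 := by
    rw [Subgroup.relIndex_eq_two_iff]
    refine ⟨q₀, hq₀Q, fun b hb => ?_⟩
    have h1 := mul_mem_iff_of_relIndex_two hSrel (hA.hQT hb) (hA.hQT hq₀Q)
    by_cases hbS : b ∈ S
    · exact Or.inr ⟨hbS, fun h => hq₀S ((h1.mp h).mp hbS)⟩
    · exact Or.inl ⟨h1.mpr ⟨fun h => absurd h hbS, fun h => absurd h hq₀S⟩, hbS⟩
  have hQD : Nat.card Q = 2 * Nat.card (Q ⊓ S : Subgroup G) := by
    have h1 := Cfsg.Agent.Lib.Helper53.card_mul_relIndex_eq (inf_le_left : Q ⊓ S ≤ Q)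
    rw [Subgroup.inf_relIndex_left, hSQrel] at h1
    omega
  have hDn : ((Q ⊓ S).subgroupOf P).Normal := ⟨fun n hn g => by
    have := hD g g.2 n hn
    simpa [Subgroup.mem_subgroupOf] using this⟩
  have hQn : (Q.subgroupOf P).Normal := ⟨fun n hn g => by
    have := hA.hQn g g.2 n hn
    simpa [Subgroup.mem_subgroupOf] using this⟩
  have card_sub : ∀ X : Subgroup G, X ≤ P → Nat.card (X.subgroupOf P) = Nat.card X :=
    fun X hX => Nat.card_congr (Subgroup.subgroupOfEquivOfLe hX).toEquiv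
  have hT2' : IsPGroup 2 (T.subgroupOf P) :=
    hA.hT2.of_equiv (Subgroup.subgroupOfEquivOfLe hA.hTH).symm
  obtain ⟨L', hL'n, hSL', hL'c, hL'Q⟩ := exists_L_abs ((Q ⊓ S).subgroupOf P) (Q.subgroupOf P)
    (S.subgroupOf P) (T.subgroupOf P)
    (fun x hx => (Subgroup.mem_subgroupOf.mp hx).1) (fun x hx => (Subgroup.mem_subgroupOf.mp hx).2)
    (fun x hx => hST (Subgroup.mem_subgroupOf.mp hx)) (fun x hx => hA.hQT (Subgroup.mem_subgroupOf.mp hx))
    hT2'
    (by rw [card_sub Q hQP, card_sub _ (inf_le_left.trans hQP)]; exact hQD)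
    (by
      rw [card_sub S hSP, card_sub _ (inf_le_left.trans hQP)]
      have := hA.hTQ
      omega)
    (by
      rw [card_sub Q hQP]
      have h1 := hA.hHT
      have h2 := hA.hTQ
      omega)
  refine ⟨L'.map P.subtype, ?_, ?_, ?_, ?_, ?_⟩
  · intro s hs
    exact ⟨⟨s, hSP hs⟩, hSL' (Subgroup.mem_subgroupOf.mpr hs), rfl⟩
  · rintro _ ⟨x, -, rfl⟩
    exact x.2
  · intro h hh l hl
    obtain ⟨x, hx, rfl⟩ := hl
    exact ⟨⟨h, hh⟩ * x * ⟨h, hh⟩⁻¹, hL'n.conj_mem x hx ⟨h, hh⟩, by simp⟩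
  · rw [Subgroup.card_map_of_injective P.subtype_injective, hL'c, card_sub S hSP]
  · rintro _ ⟨⟨x, hx, rfl⟩, hxQ⟩
    have h1 : x ∈ L' ⊓ Q.subgroupOf P := ⟨hx, Subgroup.mem_subgroupOf.mpr hxQ⟩
    exact Subgroup.mem_subgroupOf.mp (hL'Q h1)

end Cfsg.Agent.Lib.Helper1.S3Amal
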